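/-
Sections S₃ and S₄: criteria for their absence, and the two-dimensional linear groups.
-/
import Cfsg.Prelude.Def_LocalEven
import Cfsg.Agent.S2758
import Cfsg.Agent.S2759
import Cfsg.Agent.Lib.S3Free.Detect
import Cfsg.Agent.Lib.PSL2.ClassProduct
import Cfsg.Agent.Lib.SLCard

set_option autoImplicit false
set_option linter.unusedSectionVars false
set_option linter.style.haveILetI false

namespace CfsgLib.GoldschmidtS3

open Cfsg Matrix

universe u v w

local notation "S3" => Equiv.Perm (Fin 3)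
local notation "S4" => Equiv.Perm (Fin 4)

theorem involves_trans {A : Type u} [Group A] {B : Type v} [Group B] {G : Type w} [Group G] (e : A ≃* B)
    (h : Involves A G) : Involves B G := by
  obtain ⟨K, R, hn, ⟨f⟩⟩ := h
  exact ⟨K, R, hn, ⟨f.trans e⟩⟩

theorem involves_congr {A : Type u} [Group A] {G : Type v} [Group G] {H : Type w} [Group H] (e : G ≃* H)
    (h : Involves A G) : Involves A H := by
  obtain ⟨K, R, hn, ⟨f⟩⟩ := h
  let ψ : ↥K ≃* ↥(K.map e.toMonoidHom) := e.subgroupMap K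
  have hmap : (R.subgroupOf K).map ψ.toMonoidHom = (R.map e.toMonoidHom).subgroupOf (K.map e.toMonoidHom) := by
    ext x
    rw [Subgroup.mem_subgroupOf]
    constructor
    · rintro ⟨k, hk, rfl⟩
      exact ⟨k, Subgroup.mem_subgroupOf.mp hk, rfl⟩
    · rintro ⟨r, hr, e1⟩
      obtain ⟨k, hk, e2⟩ := x.2
      have : r = k := e.injective (e1.trans e2.symm)
      exact ⟨⟨k, hk⟩, Subgroup.mem_subgroupOf.mpr (show k ∈ R from this ▸ hr), Subtype.ext e2⟩
  haveI hn' : ((R.map e.toMonoidHom).subgroupOf (K.map e.toMonoidHom)).Normal :=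
    hmap ▸ hn.map ψ.toMonoidHom ψ.surjective
  exact ⟨_, _, hn', ⟨(QuotientGroup.congr _ _ ψ hmap).symm.trans f⟩⟩

/-- A 2-element inverting a non-trivial 3-element gives a section S₃, and conversely. -/
theorem involves_perm3_iff {G : Type u} [Group G] [Finite G] : Involves S3 G ↔
    ∃ x y : G, (∃ k : ℕ, orderOf x = 2 ^ k) ∧ (∃ k : ℕ, orderOf y = 3 ^ k) ∧ y ≠ 1 ∧ x * y * x⁻¹ = y⁻¹ := by
  haveI : Fact (Nat.Prime 3) := ⟨Nat.prime_three⟩
  obtain ⟨e⟩ := CfsgLib.S3Free.dihedral_three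
  have h := (Cfsg.Agent.S2758.result (G := G) (p := 3) (by norm_num)).2
  exact ⟨fun h' => h.mp (involves_trans e.symm h'), fun h' => involves_trans e (h.mpr h')⟩

/-- No section S₄ when the normalisers of non-trivial 2-subgroups have a 2-closed structure. -/
theorem s4_free_of_local {G : Type u} [Group G] [Finite G]
    (h : ∀ T : Subgroup G, T ≠ ⊥ → IsPGroup 2 T → ∃ P : Subgroup G, IsPGroup 2 P ∧ T ≤ P ∧
      ∀ g ∈ Subgroup.normalizer (T : Set G), (∃ k : ℕ, orderOf g = 2 ^ k) →
        (g ∈ Subgroup.centralizer (T : Set G) ∨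
          (g ∈ P ∧ ∀ y ∈ Subgroup.normalizer (T : Set G), y * g * y⁻¹ ∈ P))) :
    ¬ Involves S4 G := by
  classical
  haveI : Fact (Nat.Prime 2) := ⟨Nat.prime_two⟩
  intro hS
  obtain ⟨T, hT, hi⟩ := (Cfsg.Agent.S2759.result (G := G)).mp hS
  set N := Subgroup.normalizer (T : Set G)
  set C := (Subgroup.centralizer (T : Set G)).subgroupOf N
  by_cases hb : T = ⊥
  · have hC : C = ⊤ := by
      rw [Subgroup.subgroupOf_eq_top]
      intro g _
      rw [Subgroup.mem_centralizer_iff]
      intro t ht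
      rw [hb, SetLike.mem_coe, Subgroup.mem_bot] at ht
      rw [ht, one_mul, mul_one]
    obtain ⟨x, y, -, -, hy1, -⟩ := involves_perm3_iff.mp hi
    refine hy1 ?_
    obtain ⟨n, rfl⟩ := QuotientGroup.mk_surjective y
    refine (QuotientGroup.eq_one_iff n).mpr ?_
    show n ∈ C
    rw [hC]
    exact Subgroup.mem_top n
  obtain ⟨P, hP, -, hloc⟩ := h T hb hT
  obtain ⟨x, y, ⟨a, ha⟩, ⟨b, hb'⟩, hy1, hxy⟩ := involves_perm3_iff.mp hi
  obtain ⟨n, rfl⟩ := QuotientGroup.mk_surjective x
  obtain ⟨m, rfl⟩ := QuotientGroup.mk_surjective y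
  -- a 2-element over the first
  obtain ⟨e, l, hl, hn⟩ := Nat.exists_eq_pow_mul_and_not_dvd (orderOf_pos n).ne' 2 (by norm_num)
  obtain ⟨j, hj⟩ : ∃ j, l * j ≡ 1 [MOD 2 ^ (a + e)] := by
    have hcop : Nat.gcd l (2 ^ (a + e)) = 1 := ((Nat.prime_two.coprime_iff_not_dvd).mpr hl).symm.pow_right _
    rcases (a + e).eq_zero_or_pos with q | q
    · exact ⟨0, by rw [q, pow_zero]; exact Nat.modEq_one⟩
    · obtain ⟨j, hj⟩ := Nat.exists_mul_mod_eq_gcd (k := 2 ^ (a + e)) (n := l)
        (by rw [hcop]; exact Nat.one_lt_two_pow q.ne')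
      exact ⟨j, by show l * j % _ = 1 % _; rw [hj.2, hcop, Nat.one_mod_eq_one.mpr (Nat.one_lt_two_pow q.ne').ne']⟩
  set g := n ^ (l * j)
  have hg2 : ∃ k : ℕ, orderOf g = 2 ^ k := by
    have hpow : g ^ 2 ^ e = 1 := by
      rw [← pow_mul, show l * j * 2 ^ e = 2 ^ e * l * j by ring, pow_mul, ← hn, pow_orderOf_eq_one, one_pow]
    obtain ⟨k, -, hk⟩ := (Nat.dvd_prime_pow Nat.prime_two).mp (orderOf_dvd_of_pow_eq_one hpow)
    exact ⟨k, hk⟩
  have hgn : (QuotientGroup.mk g : ↥N ⧸ C) = QuotientGroup.mk n := by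
    rw [QuotientGroup.mk_pow]
    conv_rhs => rw [← pow_one (QuotientGroup.mk n : ↥N ⧸ C)]
    rw [pow_eq_pow_iff_modEq, ha]
    exact hj.of_dvd (pow_dvd_pow 2 (Nat.le_add_right a e))
  have hg2' : ∃ k : ℕ, orderOf (g : G) = 2 ^ k := by
    obtain ⟨k, hk⟩ := hg2
    exact ⟨k, by rw [Subgroup.orderOf_coe, hk]⟩
  rw [← hgn] at hxy
  rcases hloc g g.2 hg2' with hc | ⟨hgP, hgc⟩
  · have h1 : (QuotientGroup.mk g : ↥N ⧸ C) = 1 := (QuotientGroup.eq_one_iff g).mpr hc
    rw [h1, one_mul, inv_one, mul_one] at hxy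
    apply hy1
    have h2 : (QuotientGroup.mk m : ↥N ⧸ C) ^ 2 = 1 := by
      rw [pow_two]; nth_rw 2 [hxy]; rw [mul_inv_cancel]
    have h3 : (QuotientGroup.mk m : ↥N ⧸ C) ^ 3 ^ b = 1 := hb' ▸ pow_orderOf_eq_one _
    exact (pow_one _).symm.trans ((Nat.Coprime.pow_right b (by norm_num : Nat.Coprime 2 3)).gcd_eq_one ▸
      pow_gcd_eq_one.mpr ⟨h2, h3⟩)
  · -- the commutator is a 2-element
    have hcP : (g : G) * m * (g : G)⁻¹ * (m : G)⁻¹ ∈ P := by
      rw [show (g : G) * m * (g : G)⁻¹ * (m : G)⁻¹ = g * ((m : G) * (g : G)⁻¹ * (m : G)⁻¹) by group]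
      refine mul_mem hgP ?_
      have := inv_mem (hgc m m.2)
      simpa [mul_assoc] using this
    obtain ⟨k, hk⟩ := hP ⟨_, hcP⟩
    have hk' : ((g : G) * m * (g : G)⁻¹ * (m : G)⁻¹) ^ 2 ^ k = 1 := congrArg Subtype.val hk
    have hk'' : ((QuotientGroup.mk m : ↥N ⧸ C)⁻¹ * (QuotientGroup.mk m)⁻¹) ^ 2 ^ k = 1 := by
      conv_lhs => arg 1; arg 1; rw [← hxy]
      have : (g * m * g⁻¹ * m⁻¹ : ↥N) ^ 2 ^ k = 1 := Subtype.ext hk'
      have h := congrArg (QuotientGroup.mk (s := C)) this
      simpa using h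
    apply hy1
    have h2 : (QuotientGroup.mk m : ↥N ⧸ C) ^ 2 ^ (k + 1) = 1 := by
      rw [pow_succ', pow_mul, pow_two, ← _root_.inv_inj, inv_one, ← inv_pow, _root_.mul_inv_rev]
      exact hk''
    have h3 : (QuotientGroup.mk m : ↥N ⧸ C) ^ 3 ^ b = 1 := hb' ▸ pow_orderOf_eq_one _
    exact (pow_one _).symm.trans ((Nat.Coprime.pow (k + 1) b (by norm_num : Nat.Coprime 2 3)).gcd_eq_one ▸
      pow_gcd_eq_one.mpr ⟨h2, h3⟩)

/-- No section S₄ with abelian Sylow 2-subgroups. -/
theorem s4_free_of_abelian {G : Type u} [Group G] [Finite G]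
    (h : ∀ P : Sylow 2 G, ∀ a ∈ (P : Subgroup G), ∀ b ∈ (P : Subgroup G), a * b = b * a) : ¬ Involves S4 G := by
  classical
  haveI : Fact (Nat.Prime 2) := ⟨Nat.prime_two⟩
  intro hS
  obtain ⟨T, hT, hi⟩ := (Cfsg.Agent.S2759.result (G := G)).mp hS
  obtain ⟨P, hP⟩ := hT.exists_le_sylow
  set N := Subgroup.normalizer (T : Set G)
  set C := (Subgroup.centralizer (T : Set G)).subgroupOf N
  obtain ⟨x, y, ⟨a, ha⟩, ⟨b, hb⟩, hy1, hxy⟩ := involves_perm3_iff.mp hi
  have hle : (P : Subgroup G) ≤ Subgroup.centralizer (T : Set G) := fun p hp =>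
    Subgroup.mem_centralizer_iff.mpr fun t ht => h P t (hP ht) p hp
  have hodd : ¬ 2 ∣ Nat.card (↥N ⧸ C) := by
    intro h2
    refine P.not_dvd_index (h2.trans ?_)
    rw [← Subgroup.index_eq_card]
    exact (Subgroup.relIndex_dvd_of_le_left N hle).trans (Subgroup.relIndex_dvd_index_of_le
      (show (P : Subgroup G) ≤ N from hle.trans (Subgroup.centralizer_le_normalizer _)))
  have hx1 : x = 1 := by
    rcases Nat.eq_zero_or_pos a with q | q
    · rwa [q, pow_zero, orderOf_eq_one_iff] at ha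
    · exact absurd ((dvd_pow_self 2 q.ne').trans (ha ▸ orderOf_dvd_natCard x)) hodd
  rw [hx1, one_mul, inv_one, mul_one] at hxy
  apply hy1
  have h2 : y ^ 2 = 1 := by rw [pow_two]; nth_rw 2 [hxy]; rw [mul_inv_cancel]
  have h3 : y ^ 3 ^ b = 1 := hb ▸ pow_orderOf_eq_one y
  exact (pow_one y).symm.trans ((Nat.Coprime.pow_right b (by norm_num : Nat.Coprime 2 3)).gcd_eq_one ▸
    pow_gcd_eq_one.mpr ⟨h2, h3⟩)

/-- All Sylow 2-subgroups are abelian as soon as one subgroup of full 2-order is. -/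
theorem abelian_of_one {G : Type u} [Group G] [Finite G] (A : Subgroup G)
    (hA : ∀ a ∈ A, ∀ b ∈ A, a * b = b * a) (h2 : IsPGroup 2 A) (hidx : ¬ 2 ∣ A.index) (P : Sylow 2 G) :
    ∀ a ∈ (P : Subgroup G), ∀ b ∈ (P : Subgroup G), a * b = b * a := by
  classical
  haveI : Fact (Nat.Prime 2) := ⟨Nat.prime_two⟩
  obtain ⟨g, hg⟩ := MulAction.exists_smul_eq G (h2.toSylow hidx) P
  intro a ha b hb
  rw [← hg, Sylow.coe_subgroup_smul, Subgroup.mem_pointwise_smul_iff_inv_smul_mem] at ha hb
  have := hA _ ha _ hb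
  rw [← smul_mul', ← smul_mul'] at this
  exact MulAction.injective _ this

theorem abelian_of_four {G : Type u} [Group G] [Finite G] {m : ℕ} (hc : Nat.card G = 4 * m) (hm : Odd m)
    (P : Sylow 2 G) : ∀ a ∈ (P : Subgroup G), ∀ b ∈ (P : Subgroup G), a * b = b * a := by
  classical
  haveI : Fact (Nat.Prime 2) := ⟨Nat.prime_two⟩
  have hP : Nat.card (P : Subgroup G) = 2 ^ 2 := by
    rw [P.card_eq_multiplicity, hc, Nat.factorization_mul (by norm_num) hm.pos.ne']
    simp only [Finsupp.coe_add, Pi.add_apply]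
    rw [show (4 : ℕ) = 2 ^ 2 by norm_num, Nat.Prime.factorization_pow Nat.prime_two, Finsupp.single_eq_same,
      Nat.factorization_eq_zero_of_not_dvd hm.not_two_dvd_nat]
  have := IsPGroup.commutative_of_card_eq_prime_sq hP
  intro a ha b hb
  exact congrArg Subtype.val (this ⟨a, ha⟩ ⟨b, hb⟩)

section

variable {F : Type} [Field F] [Fintype F]

local notation "SL" => Matrix.SpecialLinearGroup (Fin 2) F
local notation "PSL" => Matrix.ProjectiveSpecialLinearGroup (Fin 2) F

open CfsgLib.PSL2 (mk mk_eq_mk)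

theorem cm (A B : SL) : (A * B).1 = A.1 * B.1 := rfl

theorem c1 : (1 : SL).1 = 1 := rfl

theorem ci (A : SL) : (A⁻¹).1 = Matrix.adjugate A.1 := rfl

theorem cn (A : SL) : (-A).1 = -A.1 := rfl

theorem cp (A : SL) : ∀ n : ℕ, (A ^ n).1 = A.1 ^ n
  | 0 => by rw [pow_zero, pow_zero, c1]
  | n + 1 => by rw [pow_succ, pow_succ, cm, cp A n]

/-- Away from characteristic three there is a section S₃. -/
theorem psl_s3 (h3 : (3 : F) ≠ 0) : Involves S3 PSL := by
  obtain ⟨a, b, hab⟩ := CfsgLib.PSL2Product.exists_form (γ := (-1 : F))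
    (fun e => h3 (by linear_combination -e)) (-1)
  let x : SL := ⟨!![0, -1; 1, -1], by simp [Matrix.det_fin_two]⟩
  let g : SL := ⟨!![a, b; a + b, -a], by rw [Matrix.det_fin_two_of]; linear_combination -hab⟩
  refine CfsgLib.S3Free.involves_perm3 (r := mk x) (a := mk g) ?_ ?_ ?_ ?_
  · rw [← map_pow, ← map_one (mk : SL →* PSL)]
    refine congrArg mk (Subtype.ext ?_)
    rw [cp, c1]
    show !![(0 : F), -1; 1, -1] ^ 3 = 1
    rw [pow_succ, pow_two]
    ext i j
    fin_cases i <;> fin_cases j <;> simp [Matrix.mul_apply, Fin.sum_univ_two]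
  · rw [← map_one (mk : SL →* PSL), Ne, mk_eq_mk]
    rintro (h | h)
    · have := congrFun (congrFun h 1) 0
      simp [x] at this
    · have := congrFun (congrFun h 1) 0
      simp [x] at this
  · rw [← map_mul, ← map_one (mk : SL →* PSL), mk_eq_mk]
    right
    rw [cm, c1]
    show (1 : Matrix (Fin 2) (Fin 2) F) = -(!![a, b; a + b, -a] * !![a, b; a + b, -a])
    ext i j
    fin_cases i <;> fin_cases j <;> simp [Matrix.mul_apply, Fin.sum_univ_two] <;>
      first | ring1 | linear_combination hab | linear_combination -hab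
  · have hgx : g * x = x⁻¹ * g := Subtype.ext (by
      rw [cm, cm, ci]
      show !![a, b; a + b, -a] * !![0, -1; 1, -1] = Matrix.adjugate !![(0 : F), -1; 1, -1] * !![a, b; a + b, -a]
      rw [Matrix.adjugate_fin_two_of]
      ext i j
      fin_cases i <;> fin_cases j <;> simp [Matrix.mul_apply, Fin.sum_univ_two] <;> ring)
    rw [← map_inv, ← map_inv, ← map_mul, ← map_mul, hgx, mul_inv_cancel_right]

/-- A lift of a 3-element of the projective group that is unipotent. -/
theorem exists_unipotent_lift [CharP F 3] {y : PSL} {k : ℕ} (hk : orderOf y = 3 ^ k) (hy1 : y ≠ 1) :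
    ∃ (r : SL) (a b c : F), mk r = y ∧ r.1 = !![1 + a, b; c, 1 - a] ∧ a * -a - b * c = 0 ∧
      ¬ (a = 0 ∧ b = 0 ∧ c = 0) := by
  obtain ⟨s, rfl⟩ := QuotientGroup.mk'_surjective _ y
  haveI : Fact (Nat.Prime 3) := ⟨Nat.prime_three⟩
  -- a lift with trace two
  obtain ⟨r, hr, hN⟩ : ∃ r : SL, mk r = mk s ∧ (r.1 - 1) ^ 3 ^ k = 0 := by
    have h1 : mk (s ^ 3 ^ k) = mk (1 : SL) := by rw [map_pow, map_one]; exact hk ▸ pow_orderOf_eq_one _
    have e3 : ∀ r : SL, r.1 ^ 3 ^ k = 1 → (r.1 - 1) ^ 3 ^ k = 0 := fun r hr => by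
      rw [sub_pow_char_pow_of_commute (p := 3) _ (Commute.one_right r.1), hr, one_pow, sub_self]
    rcases mk_eq_mk.mp h1 with q | q
    · exact ⟨s, rfl, e3 s (by rw [← cp, q.symm, c1])⟩
    · refine ⟨-s, mk_eq_mk.mpr (Or.inr (by rw [cn, neg_neg])), e3 _ ?_⟩
      rw [cn, Odd.neg_pow (Odd.pow (by decide)), ← cp]
      rw [c1] at q
      rw [q]
  have hne : r.1 - 1 ≠ 0 := fun e => hy1 (by
    rw [← hr, show r = 1 from Subtype.ext (sub_eq_zero.mp e), map_one])
  generalize hNdef : r.1 - 1 = N at hN hne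
  have hr1 : r.1 = 1 + N := by rw [← hNdef]; abel
  have hdN : N.det = 0 := by
    have := congrArg Matrix.det hN
    rw [Matrix.det_pow, Matrix.det_zero] at this
    exact eq_zero_of_pow_eq_zero this
  have hsq : N * N = N.trace • N := by
    have h' := hdN
    rw [Matrix.det_fin_two] at h'
    ext u w
    fin_cases u <;> fin_cases w <;>
      simp [Matrix.mul_apply, Fin.sum_univ_two, Matrix.trace_fin_two]
    · linear_combination -h'
    · ring
    · ring
    · linear_combination -h'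
  have htr : N.trace = 0 := by
    have hp : ∀ n : ℕ, N ^ (n + 1) = N.trace ^ n • N := by
      intro n
      induction n with
      | zero => simp
      | succ n ih => rw [pow_succ, ih, Matrix.smul_mul, hsq, smul_smul, pow_succ]
    have h0 : N.trace ^ 3 ^ k • N = 0 := by rw [← hp, pow_succ, hN, Matrix.zero_mul]
    exact eq_zero_of_pow_eq_zero ((smul_eq_zero.mp h0).resolve_right hne)
  rw [Matrix.det_fin_two] at hdN
  rw [Matrix.trace_fin_two] at htr
  set a := N 0 0 with ha
  set b := N 0 1 with hb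
  set c := N 1 0 with hc
  have hd : N 1 1 = -a := by linear_combination htr
  rw [hd] at hdN
  have hrM : r.1 = !![1 + a, b; c, 1 - a] := by
    rw [hr1]
    ext u w
    fin_cases u <;> fin_cases w <;> simp [ha, hb, hc, hd, sub_eq_add_neg]
  exact ⟨r, a, b, c, hr, hrM, hdN, fun ⟨a0, b0, c0⟩ => hne (by
    ext u w
    fin_cases u <;> fin_cases w
    · exact a0
    · exact b0
    · exact c0
    · show N 1 1 = 0; rw [hd, a0, neg_zero])⟩

/-- In characteristic three the centraliser of a non-trivial 3-element has exponent three. -/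
theorem psl_cent_three [CharP F 3] {x y : PSL} {k : ℕ} (hk : orderOf y = 3 ^ k) (hy1 : y ≠ 1)
    (hxy : x * y = y * x) : x ^ 3 = 1 := by
  obtain ⟨r, a, b, c, rfl, hrM, hdN, hne⟩ := exists_unipotent_lift hk hy1
  obtain ⟨g, rfl⟩ := QuotientGroup.mk'_surjective _ x
  haveI : Fact (Nat.Prime 3) := ⟨Nat.prime_three⟩
  have h30 : (3 : F) = 0 := CharP.cast_eq_zero F 3
  change mk g * mk r = mk r * mk g at hxy
  rw [← map_mul, ← map_mul, mk_eq_mk] at hxy
  have hgr : (g * r).1 = (r * g).1 := by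
    rcases hxy with q | q
    · exact q.symm
    · exfalso
      have e : (g⁻¹ * (r * g)).1 = -r.1 := by
        rw [cm, q, Matrix.mul_neg, ← cm, inv_mul_cancel_left]
      have q' := congrArg Matrix.trace e
      rw [Matrix.trace_neg, cm, Matrix.trace_mul_comm, ← cm, mul_inv_cancel_right, hrM,
        Matrix.trace_fin_two_of] at q'
      exact one_ne_zero (show (1 : F) = 0 by linear_combination q' - h30)
  rw [cm, cm, hrM] at hgr
  have e00 := congrFun (congrFun hgr 0) 0
  have e01 := congrFun (congrFun hgr 0) 1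
  have e10 := congrFun (congrFun hgr 1) 0
  simp [Matrix.mul_apply, Fin.sum_univ_two] at e00 e01 e10
  have hdet := g.2
  rw [Matrix.det_fin_two] at hdet
  set p := g.1 0 0 with hp
  set w := g.1 0 1 with hw
  set v := g.1 1 0 with hv
  set z := g.1 1 1 with hz
  have hdisc : (p + z) ^ 2 = 4 := by
    by_cases hc0 : c = 0
    · have ha0 : a = 0 := by
        have : a * a = 0 := by rw [hc0] at hdN; linear_combination -hdN
        exact mul_self_eq_zero.mp this
      have hb0 : b ≠ 0 := fun e => hne ⟨ha0, e, hc0⟩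
      have hv0 : b * v = 0 := by rw [hc0, ha0] at e00; linear_combination -e00
      have hpz : b * (p - z) = 0 := by rw [ha0] at e01; linear_combination e01
      have h1 := (mul_eq_zero.mp hv0).resolve_left hb0
      have h2 := (mul_eq_zero.mp hpz).resolve_left hb0
      rw [h1] at hdet
      linear_combination (p - z) * h2 + 4 * hdet
    · have k1 : c * (p - z) - 2 * a * v = 0 := by linear_combination -e10
      have k0 : w * c - b * v = 0 := by linear_combination e00
      refine mul_left_cancel₀ (mul_ne_zero hc0 hc0) ?_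
      linear_combination (c * (p - z) + 2 * a * v) * k1 + 4 * c * v * k0 + 4 * (c * c) * hdet - 4 * v ^ 2 * hdN
  have hsplit : p + z = 2 ∨ p + z = -2 := by
    rcases mul_eq_zero.mp (show (p + z - 2) * (p + z + 2) = 0 by linear_combination hdisc) with q | q
    · exact Or.inl (sub_eq_zero.mp q)
    · exact Or.inr (eq_neg_of_add_eq_zero_left q)
  have hch : g.1 * g.1 = (p + z) • g.1 - 1 := by
    ext i l
    fin_cases i <;> fin_cases l <;>
      simp [Matrix.mul_apply, Fin.sum_univ_two, Matrix.one_apply, ← hp, ← hw, ← hv, ← hz] <;>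
      first | ring1 | linear_combination -hdet
  have hcube : g.1 * g.1 * g.1 = (-(p + z)) • (1 : Matrix (Fin 2) (Fin 2) F) := by
    rw [hch, Matrix.sub_mul, Matrix.smul_mul, hch, Matrix.one_mul, smul_sub, smul_smul,
      show (p + z) * (p + z) = 1 by linear_combination hdisc + h30, one_smul, sub_right_comm, sub_self, zero_sub,
      neg_smul]
  rw [← map_pow, ← map_one (mk : SL →* PSL), mk_eq_mk, c1, cp, pow_succ, pow_two, hcube]
  rcases hsplit with q | q
  · left
    rw [q, show (-2 : F) = 1 by linear_combination -h30, one_smul]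
  · right
    rw [q, show (-(-2) : F) = -1 by linear_combination h30, neg_smul, one_smul, neg_neg]

/-- In characteristic three with a non-square minus one no 3-element is inverted. -/
theorem psl_s3_free [CharP F 3] (hneg : ¬ IsSquare (-1 : F)) : ¬ Involves S3 PSL := by
  intro h
  obtain ⟨x, y, -, ⟨k, hk⟩, hy1, hxy⟩ := involves_perm3_iff.mp h
  obtain ⟨g, rfl⟩ := QuotientGroup.mk'_surjective _ x
  obtain ⟨r, a, b, c, hr, hrM, hdN, hne⟩ := exists_unipotent_lift hk hy1
  obtain ⟨s, rfl⟩ := QuotientGroup.mk'_surjective _ y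
  change mk g * mk s * (mk g)⁻¹ = (mk s)⁻¹ at hxy
  rw [← hr, ← map_inv, ← map_inv, ← map_mul, ← map_mul, mk_eq_mk] at hxy
  have hinv : (r⁻¹).1 = !![1 - a, -b; -c, 1 + a] := by
    rw [ci, hrM, Matrix.adjugate_fin_two_of]
  have h30 : (3 : F) = 0 := CharP.cast_eq_zero F 3
  have hgr : (g * r).1 = (r⁻¹ * g).1 := by
    rcases hxy with q | q
    · have e : r⁻¹ = g * r * g⁻¹ := Subtype.ext q
      rw [e, inv_mul_cancel_right]
    · exfalso
      have t1 : (g * r * g⁻¹).1.trace = r.1.trace := by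
        rw [cm, Matrix.trace_mul_comm, ← cm,
          show g⁻¹ * (g * r) = r by group]
      have q' := congrArg Matrix.trace q
      rw [Matrix.trace_neg, t1, hinv, hrM, Matrix.trace_fin_two_of, Matrix.trace_fin_two_of] at q'
      exact one_ne_zero (show (1 : F) = 0 by linear_combination q' - h30)
  rw [cm, cm, hrM, hinv] at hgr
  have e00 := congrFun (congrFun hgr 0) 0
  have e01 := congrFun (congrFun hgr 0) 1
  have e10 := congrFun (congrFun hgr 1) 0
  have e11 := congrFun (congrFun hgr 1) 1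
  simp [Matrix.mul_apply, Fin.sum_univ_two] at e00 e01 e10 e11
  have hdet := g.2
  rw [Matrix.det_fin_two] at hdet
  have h2 : (2 : F) ≠ 0 := fun e => one_ne_zero (show (1 : F) = 0 by linear_combination h30 - e)
  set p := g.1 0 0
  set w := g.1 0 1
  set v := g.1 1 0
  set z := g.1 1 1
  have k00 : 2 * p * a + w * c + b * v = 0 := by linear_combination e00
  have k01 : b * (p + z) = 0 := by linear_combination e01
  have k10 : c * (p + z) = 0 := by linear_combination e10
  have hpz : z = -p := by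
    by_cases hb0 : b = 0
    · by_cases hc0 : c = 0
      · exfalso
        refine hne ⟨?_, hb0, hc0⟩
        have : a * a = 0 := by rw [hb0, hc0] at hdN; linear_combination -hdN
        exact mul_self_eq_zero.mp this
      · exact eq_neg_of_add_eq_zero_right ((mul_eq_zero.mp k10).resolve_left hc0)
    · exact eq_neg_of_add_eq_zero_right ((mul_eq_zero.mp k01).resolve_left hb0)
  by_cases hc0 : c = 0
  · have ha0 : a = 0 := by
      have : a * a = 0 := by rw [hc0] at hdN; linear_combination -hdN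
      exact mul_self_eq_zero.mp this
    have hb0 : b ≠ 0 := fun e => hne ⟨ha0, e, hc0⟩
    have hv : v = 0 := (mul_eq_zero.mp (show b * v = 0 by rw [hc0, ha0] at k00; linear_combination k00)).resolve_left hb0
    exact hneg ⟨p, by rw [hv, hpz] at hdet; linear_combination hdet⟩
  · refine hneg ⟨(c * p - a * v) / c, ?_⟩
    field_simp
    linear_combination (c * v) * k00 + v ^ 2 * hdN + c ^ 2 * hdet - c ^ 2 * p * hpz

end

end CfsgLib.GoldschmidtS3
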