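/-
The Suzuki groups, the two-dimensional linear groups, J₁, and groups with an involution centraliser Z₂ × L.
-/
import Cfsg.Agent.Lib.GoldschmidtS3.Basic
import Cfsg.Agent.S1163
import Cfsg.Agent.S2131
import Cfsg.Agent.Lib.J1.Order
import Mathlib.NumberTheory.LegendreSymbol.Basic

set_option autoImplicit false
set_option linter.unusedSectionVars false
set_option linter.style.haveILetI false

namespace CfsgLib.GoldschmidtS3

open Cfsg Matrix

universe u v w

local notation "S3" => Equiv.Perm (Fin 3)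
local notation "S4" => Equiv.Perm (Fin 4)

theorem involves_card {A : Type u} [Group A] {G : Type v} [Group G] [Finite G] (h : Involves A G) :
    Nat.card A ∣ Nat.card G := by
  obtain ⟨K, R, hn, ⟨f⟩⟩ := h
  rw [← Nat.card_congr f.toEquiv]
  exact (Subgroup.card_quotient_dvd_card _).trans (Subgroup.card_subgroup_dvd_card K)

theorem suzuki_facts {G : Type u} [Group G] [Finite G] (h : Cfsg.Lie.IsoSuzuki G) :
    ¬ Involves S4 G ∧ ¬ Involves S3 G := by
  obtain ⟨F, i1, i2, m, hm, hc, ⟨e⟩⟩ := h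
  have h3 : ¬ 3 ∣ Nat.card G := by
    rw [Nat.card_congr e.toEquiv, (Cfsg.Agent.S1163.result hm hc).1]
    set Q := 2 ^ (2 * m + 1) with hQ
    have hQ3 : Q % 3 = 2 := by rw [hQ, pow_succ, pow_mul, Nat.mul_mod, Nat.pow_mod]; norm_num
    have e2 : Q ^ 2 % 3 = 1 := by rw [Nat.pow_mod, hQ3]
    intro hd
    have h2 : (Q - 1) % 3 = 1 := by omega
    have h4 : (Q ^ 2 + 1) % 3 = 2 := by omega
    rcases (Nat.Prime.dvd_mul Nat.prime_three).mp hd with q | q
    · rcases (Nat.Prime.dvd_mul Nat.prime_three).mp q with q' | q' <;> omega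
    · omega
  refine ⟨fun hi => h3 ?_, fun hi => h3 ?_⟩
  · exact (show 3 ∣ Nat.card S4 by rw [Nat.card_perm, Nat.card_fin]; decide).trans (involves_card hi)
  · exact (show 3 ∣ Nat.card S3 by rw [Nat.card_perm, Nat.card_fin]; decide).trans (involves_card hi)

section
variable {F : Type} [Field F] [Fintype F]

local notation "SL" => Matrix.SpecialLinearGroup (Fin 2) F
local notation "PSL" => Matrix.ProjectiveSpecialLinearGroup (Fin 2) F

open CfsgLib.PSL2 (mk mk_eq_mk)

theorem psl_card : Nat.gcd 2 (Fintype.card F - 1) * Nat.card PSL = Fintype.card F * (Fintype.card F ^ 2 - 1) := by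
  rw [SLCard.gcd_mul_card_PSL (by norm_num), SLCard.card_SL_two]

/-- The even case. -/
theorem psl_even {n : ℕ} (hn : n ≠ 0) (hF : Fintype.card F = 2 ^ n) : ¬ Involves S4 PSL ∧ Involves S3 PSL := by
  classical
  haveI : Fact (Nat.Prime 2) := ⟨Nat.prime_two⟩
  haveI : CharP F 2 := charP_of_card_eq_prime_pow hF
  refine ⟨s4_free_of_abelian ?_, psl_s3 (fun h => ?_)⟩
  · let g : Multiplicative F →* PSL :=
      { toFun := fun x => mk (⟨!![1, x.toAdd; 0, 1], by simp [Matrix.det_fin_two]⟩ : SL)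
        map_one' := by rw [← map_one (mk : SL →* PSL)]; exact congrArg mk (Subtype.ext Matrix.one_fin_two.symm)
        map_mul' := fun x y => by
          refine Eq.trans ?_ (map_mul (mk : SL →* PSL) _ _)
          refine congrArg mk (Subtype.ext ?_)
          show !![(1 : F), (x * y).toAdd; 0, 1] = !![1, x.toAdd; 0, 1] * !![1, y.toAdd; 0, 1]
          rw [toAdd_mul]
          ext i j
          fin_cases i <;> fin_cases j <;> simp [Matrix.mul_apply, Fin.sum_univ_two, add_comm] }
    have hg : Function.Injective g := fun x y h => by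
      rcases mk_eq_mk.mp h with q | q <;> have := congrFun (congrFun q 0) 1 <;> simp [CharTwo.neg_eq] at this <;>
        exact this.symm
    have hcard : Nat.card g.range = 2 ^ n := by
      rw [← Nat.card_congr (MonoidHom.ofInjective hg).toEquiv, ← hF, Nat.card_eq_fintype_card]
      exact Fintype.card_multiplicative F
    refine abelian_of_one g.range ?_ (IsPGroup.of_card hcard) ?_
    · rintro _ ⟨x, rfl⟩ _ ⟨y, rfl⟩
      rw [← map_mul, ← map_mul, mul_comm]
    · have h := g.range.card_mul_index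
      have hc := psl_card (F := F)
      have hodd : ¬ 2 ∣ 2 ^ n - 1 := by
        have h2 : 2 ∣ 2 ^ n := dvd_pow_self 2 hn
        have h1 : 1 ≤ 2 ^ n := Nat.one_le_two_pow
        omega
      rw [hF, show Nat.gcd 2 (2 ^ n - 1) = 1 from (Nat.prime_two.coprime_iff_not_dvd).mpr hodd, one_mul, ← h,
        hcard] at hc
      rw [Nat.eq_of_mul_eq_mul_left (by positivity) hc]
      have h2 : 2 ∣ (2 ^ n) ^ 2 := dvd_pow (dvd_pow_self 2 hn) two_ne_zero
      have h1 : 1 ≤ (2 ^ n) ^ 2 := Nat.one_le_pow _ _ (by positivity)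
      omega
  · have h2 : (2 : F) = 0 := CharP.cast_eq_zero F 2
    exact one_ne_zero (show (1 : F) = 0 by linear_combination h - h2)

/-- The odd case: Sylow 2-subgroups of order four. -/
theorem psl_odd_abelian (h8 : Fintype.card F % 8 = 3 ∨ Fintype.card F % 8 = 5) (P : Sylow 2 PSL) :
    ∀ a ∈ (P : Subgroup PSL), ∀ b ∈ (P : Subgroup PSL), a * b = b * a := by
  have hc := psl_card (F := F)
  obtain ⟨q, hq⟩ : ∃ q, q = Fintype.card F := ⟨_, rfl⟩
  rw [← hq] at hc h8
  obtain ⟨k, r, hr, hqk⟩ : ∃ k r : ℕ, (r = 3 ∨ r = 5) ∧ q = 8 * k + r := ⟨q / 8, q % 8, h8, by omega⟩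
  rw [Nat.gcd_eq_left (show 2 ∣ q - 1 by omega)] at hc
  obtain ⟨m, hm, hmq⟩ : ∃ m, Odd m ∧ q ^ 2 - 1 = 8 * m := by
    rcases hr with rfl | rfl
    · refine ⟨(4 * k + 1) * (2 * k + 1), ?_, ?_⟩
      · exact Odd.mul ⟨2 * k, by ring⟩ ⟨k, by ring⟩
      · rw [hqk, show (8 * k + 3) ^ 2 = 8 * ((4 * k + 1) * (2 * k + 1)) + 1 by ring, Nat.add_sub_cancel]
    · refine ⟨(2 * k + 1) * (4 * k + 3), ?_, ?_⟩
      · exact Odd.mul ⟨k, by ring⟩ ⟨2 * k + 1, by ring⟩
      · rw [hqk, show (8 * k + 5) ^ 2 = 8 * ((2 * k + 1) * (4 * k + 3)) + 1 by ring, Nat.add_sub_cancel]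
  refine abelian_of_four (m := q * m) ?_ ?_ P
  · rw [hmq] at hc
    refine Nat.eq_of_mul_eq_mul_left two_pos ?_
    rw [hc]; ring
  · exact (Nat.odd_iff.mpr (by omega)).mul hm

end

/-- PSL₂ over a field with 3^odd elements has no section S₃. -/
theorem psl_three_free {G : Type u} [Group G] {F : Type} [Field F] [Fintype F] {n : ℕ}
    (hF : Fintype.card F = 3 ^ (2 * n + 1)) (e : G ≃* Matrix.ProjectiveSpecialLinearGroup (Fin 2) F) :
    ¬ Involves S3 G := by
  haveI : Fact (Nat.Prime 3) := ⟨Nat.prime_three⟩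
  haveI : CharP F 3 := charP_of_card_eq_prime_pow hF
  intro h
  refine psl_s3_free (fun hsq => ?_) (involves_congr e h)
  rw [FiniteField.isSquare_neg_one_iff, hF] at hsq
  apply hsq
  rw [pow_succ, pow_mul, Nat.mul_mod, Nat.pow_mod]
  norm_num

/-- An involution centraliser `Z₂ × L` of odd index makes the Sylow 2-subgroups abelian. -/
theorem abelian_of_cent {G : Type u} [Group G] [Finite G] (H : Subgroup G) (hH : ¬ 2 ∣ H.index)
    {L : Type v} [Group L] [Finite L]
    (hL : ∀ P : Sylow 2 L, ∀ a ∈ (P : Subgroup L), ∀ b ∈ (P : Subgroup L), a * b = b * a)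
    (e : ↥H ≃* Multiplicative (ZMod 2) × L) (P : Sylow 2 G) :
    ∀ a ∈ (P : Subgroup G), ∀ b ∈ (P : Subgroup G), a * b = b * a := by
  classical
  haveI : Fact (Nat.Prime 2) := ⟨Nat.prime_two⟩
  obtain ⟨Q⟩ : Nonempty (Sylow 2 L) := inferInstance
  let A : Subgroup ↥H := ((⊤ : Subgroup (Multiplicative (ZMod 2))).prod (Q : Subgroup L)).map e.symm.toMonoidHom
  have hA : IsPGroup 2 A := by
    refine IsPGroup.map ?_ _
    obtain ⟨k, hk⟩ := IsPGroup.iff_card.mp Q.2
    refine IsPGroup.of_card (n := k + 1) ?_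
    rw [Nat.card_congr (Subgroup.prodEquiv _ _).toEquiv, Nat.card_prod, Subgroup.card_top, hk]
    rw [show Nat.card (Multiplicative (ZMod 2)) = 2 from (Nat.card_congr Multiplicative.toAdd).trans (Nat.card_zmod 2)]
    ring
  refine abelian_of_one (A.map H.subtype) ?_ (hA.map _) ?_ P
  · rintro _ ⟨_, ⟨⟨a1, a2⟩, ⟨-, ha⟩, rfl⟩, rfl⟩ _ ⟨_, ⟨⟨b1, b2⟩, ⟨-, hb⟩, rfl⟩, rfl⟩
    rw [← map_mul, ← map_mul, ← map_mul, ← map_mul, Prod.mk_mul_mk, Prod.mk_mul_mk, mul_comm a1, hL Q a2 ha b2 hb]
  · rw [Subgroup.index_map_subtype]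
    intro hd
    rcases Nat.prime_two.dvd_mul.mp hd with q | q
    · rw [show A = ((⊤ : Subgroup (Multiplicative (ZMod 2))).prod (Q : Subgroup L)).map e.symm.toMonoidHom from rfl,
        Subgroup.index_map_of_bijective e.symm.bijective, Subgroup.index_prod, Subgroup.index_top, one_mul] at q
      exact Q.not_dvd_index q
    · exact hH q

theorem j1_facts {G : Type u} [Group G] [Finite G] (h : Cfsg.Spor.IsoJ1 G) :
    ¬ Involves S4 G ∧ Involves S3 G := by
  obtain ⟨f⟩ := h
  obtain ⟨t, -, ⟨e⟩⟩ := Cfsg.Agent.S2131.result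
  haveI : Finite ↥Cfsg.Spor.J1 := Finite.of_equiv G f.toEquiv
  have hA5 : Nat.card (alternatingGroup (Fin 5)) = 4 * 15 := by
    rw [nat_card_alternatingGroup, Nat.card_fin]; rfl
  refine ⟨fun h4 => s4_free_of_abelian (abelian_of_cent (Subgroup.centralizer ({t} : Set ↥Cfsg.Spor.J1)) ?_
      (abelian_of_four hA5 (by decide)) e) (involves_congr f h4), ?_⟩
  · have hc := (Subgroup.centralizer ({t} : Set ↥Cfsg.Spor.J1)).card_mul_index
    rw [CfsgLib.J1.card_J1, Nat.card_congr e.toEquiv, Nat.card_prod, hA5,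
      show Nat.card (Multiplicative (ZMod 2)) = 2 from (Nat.card_congr Multiplicative.toAdd).trans (Nat.card_zmod 2)] at hc
    omega
  · let r : alternatingGroup (Fin 5) := ⟨Equiv.swap 0 1 * Equiv.swap 1 2, by
      rw [Equiv.Perm.mem_alternatingGroup]; decide⟩
    let a : alternatingGroup (Fin 5) := ⟨Equiv.swap 0 1 * Equiv.swap 3 4, by
      rw [Equiv.Perm.mem_alternatingGroup]; decide⟩
    let φ : alternatingGroup (Fin 5) →* G := (f.symm.toMonoidHom.comp
      (Subgroup.centralizer ({t} : Set ↥Cfsg.Spor.J1)).subtype).comp (e.symm.toMonoidHom.comp (MonoidHom.inr _ _))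
    have hφ : Function.Injective φ := f.symm.injective.comp (Subtype.val_injective.comp
      (e.symm.injective.comp fun x y h => (Prod.ext_iff.mp h).2))
    refine CfsgLib.S3Free.involves_perm3 (r := φ r) (a := φ a) ?_ ?_ ?_ ?_
    · rw [← map_pow, show r ^ 3 = 1 from by decide, map_one]
    · rw [Ne, ← map_one φ]
      exact fun h => absurd (hφ h) (by decide)
    · rw [← map_mul, show a * a = 1 from by decide, map_one]
    · rw [← map_inv, ← map_inv, ← map_mul, ← map_mul]
      exact congrArg φ (by decide)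

end CfsgLib.GoldschmidtS3
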