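/-
The three-dimensional unitary groups in characteristic two: a section S₃ and no section S₄.
-/
import Cfsg.Agent.Lib.GoldschmidtS3.Basic
import Cfsg.Agent.Lib.PSU3Min.Borel
import Cfsg.Agent.Lib.ClassTwoSylow
import Cfsg.Agent.Lib.UnitaryBasic

set_option autoImplicit false
set_option linter.unusedSectionVars false
set_option linter.style.haveILetI false

namespace CfsgLib.GoldschmidtS3

open Cfsg Matrix CfsgLib.PSUBorel CfsgLib.PSU3Min

variable {F : Type} [Field F] [Fintype F] (c : Conj F) [CharP F 2]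

local notation "SU3" => SUs c 3
local notation "S3" => Equiv.Perm (Fin 3)
local notation "S4" => Equiv.Perm (Fin 4)

/-- A long root element. -/
def uLong : SU3 := ⟨⟨!![1, 0, 1; 0, 1, 0; 0, 0, 1], by simp [Matrix.det_fin_three]⟩, by
  show Cond c !![1, 0, 1; 0, 1, 0; 0, 0, 1]
  ext i j
  rw [Matrix.mul_apply]
  simp only [mul_aJ]
  fin_cases i <;> fin_cases j <;> simp [aJ, Fin.sum_univ_three, Fin.rev, CharTwo.add_self_eq_zero]⟩

/-- The long Weyl element. -/
def wLong : SU3 := ⟨⟨!![0, 0, 1; 0, 1, 0; 1, 0, 0], by simp [Matrix.det_fin_three, CharTwo.neg_eq]⟩, by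
  show Cond c !![0, 0, 1; 0, 1, 0; 1, 0, 0]
  ext i j
  rw [Matrix.mul_apply]
  simp only [mul_aJ]
  fin_cases i <;> fin_cases j <;> simp [aJ, Fin.sum_univ_three, Fin.rev]⟩

theorem su_s3 : ∃ r u : SU3, r ^ 3 = 1 ∧ u * u = 1 ∧ u * r * u⁻¹ = r⁻¹ ∧ u * r ≠ r * u := by
  have huu : uLong c * uLong c = 1 := by
    refine SUs_ext c (Matrix.ext fun i j => ?_)
    rw [PSUBorel.coe_mul, PSUBorel.coe_one]
    fin_cases i <;> fin_cases j <;> simp [uLong, Matrix.mul_apply, Fin.sum_univ_three, CharTwo.add_self_eq_zero]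
  have hww : wLong c * wLong c = 1 := by
    refine SUs_ext c (Matrix.ext fun i j => ?_)
    rw [PSUBorel.coe_mul, PSUBorel.coe_one]
    fin_cases i <;> fin_cases j <;> simp [wLong, Matrix.mul_apply, Fin.sum_univ_three]
  have hr : (uLong c * wLong c) ^ 3 = 1 := by
    rw [pow_succ, pow_two]
    refine SUs_ext c (Matrix.ext fun i j => ?_)
    rw [PSUBorel.coe_mul, PSUBorel.coe_mul, PSUBorel.coe_mul, PSUBorel.coe_one]
    fin_cases i <;> fin_cases j <;>
      simp [uLong, wLong, Matrix.mul_apply, Fin.sum_univ_three, CharTwo.add_self_eq_zero]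
  have hui : (uLong c)⁻¹ = uLong c := inv_eq_of_mul_eq_one_right huu
  have hwi : (wLong c)⁻¹ = wLong c := inv_eq_of_mul_eq_one_right hww
  refine ⟨uLong c * wLong c, uLong c, hr, huu, ?_, fun h => ?_⟩
  · rw [_root_.mul_inv_rev, hwi, ← mul_assoc, huu, one_mul]
  · rw [← mul_assoc, huu, one_mul] at h
    have h' : (wLong c).1.1 = (uLong c).1.1 * (wLong c).1.1 * (uLong c).1.1 := by
      rw [← PSUBorel.coe_mul, ← PSUBorel.coe_mul, ← h]
    have h'' := congrFun (congrFun h' 0) 0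
    simp [uLong, wLong, Matrix.mul_apply, Fin.sum_univ_three] at h''

theorem su_s4_free : ¬ Involves S4 SU3 := by
  classical
  haveI : Fact (Nat.Prime 2) := ⟨Nat.prime_two⟩
  obtain ⟨f, hf0, hf⟩ : ∃ f : ℕ, f ≠ 0 ∧ c.q = 2 ^ f := by
    obtain ⟨n, -, hn⟩ := FiniteField.card F 2
    have h : c.q ^ 2 = 2 ^ (n : ℕ) := c.card ▸ hn
    obtain ⟨f, -, hf⟩ := (Nat.dvd_prime_pow Nat.prime_two).mp (h ▸ dvd_pow_self c.q (by norm_num))
    exact ⟨f, fun e => c.one_lt.ne' (by rw [hf, e, pow_zero]), hf⟩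
  have hU : Nat.card (UG c) = 2 ^ (f * 3) := by rw [card_UG c 2, hf, ← pow_mul]
  have hidx : ¬ 2 ∣ (UG c).index := by
    have h := (UG c).card_mul_index
    rw [hU, card_G c, hf, ← pow_mul] at h
    rw [Nat.eq_of_mul_eq_mul_left (by positivity) h, pow_mul]
    intro h2
    have he : Even (2 ^ f) := (Nat.even_pow' hf0).mpr even_two
    rcases Nat.prime_two.dvd_mul.mp h2 with q | q
    · have h4 : 2 ∣ (2 ^ f) ^ 2 := even_iff_two_dvd.mp (he.pow_of_ne_zero two_ne_zero)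
      have := Nat.one_le_pow 2 (2 ^ f) (by positivity)
      omega
    · have h4 : 2 ∣ (2 ^ f) ^ 3 := even_iff_two_dvd.mp (he.pow_of_ne_zero (by norm_num))
      omega
  have hUp : IsPGroup 2 (UG c) := IsPGroup.of_card hU
  have hBn : BG c ≤ Subgroup.normalizer ((UG c : Subgroup SU3) : Set SU3) := by
    haveI hn : ((UG c).subgroupOf (BG c)).Normal := corner_ker c ▸ MonoidHom.normal_ker _
    exact (Subgroup.normal_subgroupOf_iff_le_normalizer (UG_le c)).mp hn
  refine s4_free_of_local fun T hT hT2 => ?_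
  obtain ⟨P, hP⟩ := hT2.exists_le_sylow
  obtain ⟨a, ha⟩ := MulAction.exists_smul_eq SU3 (hUp.toSylow hidx) P
  have hmem : ∀ {x : SU3}, x ∈ (P : Subgroup SU3) ↔ a⁻¹ * x * a ∈ UG c := by
    intro x
    rw [← ha, Sylow.coe_subgroup_smul, Subgroup.mem_pointwise_smul_iff_inv_smul_mem]
    show (MulAut.conj a)⁻¹ x ∈ UG c ↔ _
    rw [MulAut.inv_apply, MulAut.conj_symm_apply]
  refine ⟨P, P.2, hP, fun g hg hg2 => Or.inr ?_⟩
  obtain ⟨⟨t, ht⟩, h1⟩ := Subgroup.ne_bot_iff_exists_ne_one.mp hT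
  have ht1 : t ≠ 1 := fun e => h1 (Subtype.ext e)
  have hN : ∀ y ∈ Subgroup.normalizer (T : Set SU3), y ∈ Subgroup.normalizer ((P : Subgroup SU3) : Set SU3) := by
    intro y hy
    have hy' : y⁻¹ * t * y ∈ T := by
      have := (Subgroup.mem_normalizer_iff''.mp hy t).mp ht
      exact this
    have hb : a⁻¹ * y * a ∈ BG c := ti c (hmem.mp (hP ht))
      (fun e => ht1 (by
        calc t = a * (a⁻¹ * t * a) * a⁻¹ := by group
          _ = 1 := by rw [e]; group))
      (by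
        rw [show (a⁻¹ * y * a)⁻¹ * (a⁻¹ * t * a) * (a⁻¹ * y * a) = a⁻¹ * (y⁻¹ * t * y) * a by group]
        exact hmem.mp (hP hy'))
    have hn := Subgroup.mem_normalizer_iff.mp (hBn hb)
    refine Subgroup.mem_normalizer_iff.mpr fun x => ?_
    rw [hmem, hmem, hn,
      show a⁻¹ * y * a * (a⁻¹ * x * a) * (a⁻¹ * y * a)⁻¹ = a⁻¹ * (y * x * y⁻¹) * a by group]
  have hgP : g ∈ (P : Subgroup SU3) := by
    obtain ⟨k, hk⟩ := hg2
    have hz : IsPGroup 2 (Subgroup.zpowers g) := IsPGroup.of_card (n := k) (by rw [Nat.card_zpowers, hk])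
    have : g ∈ Subgroup.zpowers g ⊓ Subgroup.normalizer ((P : Subgroup SU3) : Set SU3) :=
      ⟨Subgroup.mem_zpowers g, hN g hg⟩
    exact ((hz.inf_normalizer_sylow P).le this).2
  exact ⟨hgP, fun y hy => (Subgroup.mem_normalizer_iff.mp (hN y hy) g).mp hgP⟩

omit [CharP F 2]

/-- The projective special unitary groups in characteristic two. -/
theorem psu_facts {n : ℕ} (hF : Fintype.card F = 4 ^ n) :
    ¬ Involves S4 (Cfsg.PSU 3 F (2 ^ n)) ∧ Involves S3 (Cfsg.PSU 3 F (2 ^ n)) := by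
  haveI : CharP F 2 := by
    haveI : Fact (Nat.Prime 2) := ⟨Nat.prime_two⟩
    exact charP_of_card_eq_prime_pow (f := 2 * n) (by rw [hF, pow_mul]; norm_num)
  have hF' : Fintype.card F = (2 ^ n) ^ 2 := by rw [hF, ← pow_mul, mul_comm, pow_mul]; norm_num
  obtain ⟨-, σ, hσ⟩ := CfsgLib.UnitaryBasic.frob_exists hF'
  obtain ⟨d, hd⟩ : ∃ d : Conj F, d.q = 2 ^ n := ⟨⟨2 ^ n, σ, hF', hσ⟩, rfl⟩
  rw [← hd]
  obtain ⟨E⟩ := exists_iso d (n := 3)
  refine ⟨fun h => su_s4_free d (involves_congr E.symm (ClassTwoSylow.involves_of_quotient h)), ?_⟩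
  obtain ⟨r, u, hr, huu, hinv, hne⟩ := su_s3 d
  let π : SUs d 3 →* Cfsg.PSU 3 F d.q := (QuotientGroup.mk' _).comp E.toMonoidHom
  refine CfsgLib.S3Free.involves_perm3 (r := π r) (a := π u) (by rw [← map_pow, hr, map_one]) ?_
    (by rw [← map_mul, huu, map_one]) (by rw [← map_inv, ← map_inv, ← map_mul, ← map_mul, hinv])
  intro h
  have hz : E r ∈ Subgroup.center (Cfsg.SU 3 F d.q) := (QuotientGroup.eq_one_iff _).mp h
  exact hne (E.injective (by rw [map_mul, map_mul]; exact Subgroup.mem_center_iff.mp hz (E u)))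

end CfsgLib.GoldschmidtS3
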