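/-
Groups of Ree type: abelian Sylow 2-subgroups, and a section S₃ once the order is known.
-/
import Cfsg.Agent.Lib.GoldschmidtS3.Families
import Cfsg.Agent.Lib.U43Type.Util
import Mathlib.GroupTheory.NoncommCoprod

set_option autoImplicit false
set_option linter.unusedSectionVars false
set_option linter.style.haveILetI false

namespace CfsgLib.GoldschmidtS3

open Cfsg

universe u

local notation "S3" => Equiv.Perm (Fin 3)

/-- An internal direct product with an involution as an abstract product. -/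
theorem equiv_of_internal {G : Type u} [Group G] [Finite G] {t : G} (ht : orderOf t = 2) {K : Subgroup G}
    {C : Subgroup G} (h : IsInternalDirectProduct (Subgroup.zpowers t) K C) :
    Nonempty (↥C ≃* Multiplicative (ZMod 2) × ↥K) := by
  obtain ⟨-, -, hc, hinf, hsup⟩ := h
  let f : ↥(Subgroup.zpowers t) × ↥K →* G :=
    (Subgroup.zpowers t).subtype.noncommCoprod K.subtype fun a b => hc a a.2 b b.2
  have hf : Function.Injective f := by
    refine (injective_iff_map_eq_one f).mpr ?_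
    rintro ⟨a, b⟩ hab
    have hab' : (a : G) * b = 1 := hab
    have ha : (a : G) ∈ Subgroup.zpowers t ⊓ K :=
      ⟨a.2, by rw [eq_inv_of_mul_eq_one_left hab']; exact K.inv_mem b.2⟩
    rw [hinf, Subgroup.mem_bot] at ha
    rw [ha, one_mul] at hab'
    exact Prod.ext (Subtype.ext ha) (Subtype.ext hab')
  have hr : f.range = C := by
    refine (MonoidHom.noncommCoprod_range _ _ _).trans ?_
    rw [Subgroup.range_subtype, Subgroup.range_subtype, hsup]
  haveI : Fact (Nat.Prime 2) := ⟨Nat.prime_two⟩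
  have hz : Nat.card ↥(Subgroup.zpowers t) = 2 := by rw [Nat.card_zpowers, ht]
  have h2 : Nat.card (Multiplicative (ZMod 2)) = 2 :=
    (Nat.card_congr Multiplicative.toAdd).trans (Nat.card_zmod 2)
  exact ⟨(((MonoidHom.ofInjective hf).trans (MulEquiv.subgroupCongr hr)).symm).trans
    (MulEquiv.prodCongr (mulEquivOfPrimeCardEq hz h2) (MulEquiv.refl _))⟩

theorem psl_three_card {F : Type} [Field F] [Fintype F] {n : ℕ} (hF : Fintype.card F = 3 ^ (2 * n + 1)) :
    ∃ m : ℕ, Odd m ∧ ¬ 3 ∣ m ∧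
      Nat.card (Matrix.ProjectiveSpecialLinearGroup (Fin 2) F) = 4 * (3 ^ (2 * n + 1) * m) := by
  have hc := psl_card (F := F)
  rw [hF] at hc
  have h8 : 3 ^ (2 * n + 1) % 8 = 3 := by rw [pow_succ, pow_mul, Nat.mul_mod, Nat.pow_mod]; norm_num
  have h3 : (3 ^ (2 * n + 1)) ^ 2 % 3 = 0 := Nat.mod_eq_zero_of_dvd (dvd_pow (dvd_pow_self 3 (by omega)) two_ne_zero)
  obtain ⟨q, hq⟩ : ∃ q, q = 3 ^ (2 * n + 1) := ⟨_, rfl⟩
  rw [← hq] at hc h8 h3 ⊢
  rw [Nat.gcd_eq_left (show 2 ∣ q - 1 by omega)] at hc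
  obtain ⟨k, hk⟩ : ∃ k, q = 8 * k + 3 := ⟨q / 8, by omega⟩
  have hm : q ^ 2 - 1 = 8 * ((4 * k + 1) * (2 * k + 1)) := by
    rw [hk, show (8 * k + 3) ^ 2 = 8 * ((4 * k + 1) * (2 * k + 1)) + 1 by ring, Nat.add_sub_cancel]
  refine ⟨(4 * k + 1) * (2 * k + 1), Odd.mul ⟨2 * k, by ring⟩ ⟨k, by ring⟩, fun hd => ?_, ?_⟩
  · obtain ⟨c, hc'⟩ := hd
    have h1 : 1 ≤ q ^ 2 := Nat.one_le_pow _ _ (by omega)
    rw [hc'] at hm
    omega
  · rw [hm] at hc
    refine Nat.eq_of_mul_eq_mul_left two_pos ?_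
    rw [hc]; ring

/-- With a large Sylow 3-subgroup a group with this centraliser has a section S₃. -/
theorem s3_of_order {G : Type u} [Group G] [Finite G] {t : G} (ht : orderOf t = 2)
    (hidx : Odd (Subgroup.centralizer ({t} : Set G)).index) {F : Type} [Field F] [Fintype F] {n : ℕ}
    (hF : Fintype.card F = 3 ^ (2 * n + 1))
    (e : ↥(Subgroup.centralizer ({t} : Set G)) ≃*
      Multiplicative (ZMod 2) × Matrix.ProjectiveSpecialLinearGroup (Fin 2) F)
    (h3 : 3 ^ (2 * n + 1 + 1) ∣ Nat.card G) : Involves S3 G := by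
  classical
  haveI : Fact (Nat.Prime 3) := ⟨Nat.prime_three⟩
  haveI : Fact (Nat.Prime 2) := ⟨Nat.prime_two⟩
  haveI : CharP F 3 := charP_of_card_eq_prime_pow hF
  obtain ⟨m, hm2, hm, hL⟩ := psl_three_card hF
  generalize hjn : 2 * n + 1 = j at h3 hL
  have hj : j ≠ 0 := by omega
  set C := Subgroup.centralizer ({t} : Set G)
  have htt : t * t = 1 := by rw [← pow_two, ← ht, pow_orderOf_eq_one]
  have hti : t⁻¹ = t := inv_eq_of_mul_eq_one_right htt
  have hC : Nat.card C = 2 * (4 * (3 ^ j * m)) := by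
    rw [Nat.card_congr e.toEquiv, Nat.card_prod, hL,
      show Nat.card (Multiplicative (ZMod 2)) = 2 from (Nat.card_congr Multiplicative.toAdd).trans (Nat.card_zmod 2)]
  obtain ⟨U0⟩ : Nonempty (Sylow 3 ↥C) := inferInstance
  set U := (U0 : Subgroup ↥C).map C.subtype
  have hU : Nat.card U = 3 ^ j := by
    rw [Subgroup.card_map_of_injective C.subtype_injective, U0.card_eq_multiplicity, hC,
      show 2 * (4 * (3 ^ j * m)) = 3 ^ j * (8 * m) by ring,
      Nat.factorization_mul (by positivity) (by have := hm2.pos; omega)]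
    simp only [Finsupp.coe_add, Pi.add_apply]
    rw [Nat.Prime.factorization_pow Nat.prime_three, Finsupp.single_eq_same,
      Nat.factorization_eq_zero_of_not_dvd (by omega : ¬ 3 ∣ 8 * m), add_zero]
  have hUp : IsPGroup 3 U := IsPGroup.of_card hU
  have hUC : U ≤ C := Subgroup.map_subtype_le _
  have hUmax : ∀ V : Subgroup G, IsPGroup 3 V → U ≤ V → V ≤ C → V = U := fun V hV hUV hVC => by
    have h' : U0 ≤ V.subgroupOf C := fun x hx => hUV ⟨x, hx, rfl⟩
    have := U0.3 (hV.of_equiv (Subgroup.subgroupOfEquivOfLe hVC).symm) h'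
    have e2 := congrArg (Subgroup.map C.subtype) this
    rwa [Subgroup.map_subgroupOf_eq_of_le hVC] at e2
  obtain ⟨R, hR⟩ := hUp.exists_le_sylow
  have hne : U ≠ R := fun e' => by
    have hR' : 3 ^ (j + 1) ∣ Nat.card (R : Subgroup G) := R.pow_dvd_card_of_pow_dvd_card h3
    rw [← e', hU] at hR'
    have := Nat.le_of_dvd (by positivity) hR'
    rw [pow_succ] at this
    have := Nat.one_le_pow j 3 (by norm_num)
    omega
  obtain ⟨n, hnR, hnU, hn⟩ := CfsgU43Type.exists_normalizing R.2 hR hne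
  set V := (R : Subgroup G) ⊓ Subgroup.normalizer (U : Set G)
  have hUV : U ≤ V := le_inf hR Subgroup.le_normalizer
  have hnV : n ∈ V := ⟨hnR, Subgroup.mem_normalizer_iff.mpr hn⟩
  have hVp : IsPGroup 3 V := R.2.to_le inf_le_left
  haveI hUn : (U.subgroupOf V).Normal :=
    (Subgroup.normal_subgroupOf_iff_le_normalizer hUV).mpr inf_le_right
  -- a central element inside
  obtain ⟨u, hu, hu1, huc⟩ : ∃ u ∈ U, u ≠ 1 ∧ ∀ v ∈ V, v * u = u * v := by
    haveI hnt : Nontrivial ↥(U.subgroupOf V) := by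
      rw [← Finite.one_lt_card_iff_nontrivial, Nat.card_congr (Subgroup.subgroupOfEquivOfLe hUV).toEquiv, hU]
      exact Nat.one_lt_pow hj (by norm_num)
    letI : MulDistribMulAction (ConjAct ↥V) ↥(U.subgroupOf V) := inferInstance
    obtain ⟨x, hx, hx1⟩ : ∃ x ∈ MulAction.fixedPoints (ConjAct ↥V) ↥(U.subgroupOf V),
        (1 : ↥(U.subgroupOf V)) ≠ x := by
      have hpU : 3 ∣ Nat.card ↥(U.subgroupOf V) := by
        rw [Nat.card_congr (Subgroup.subgroupOfEquivOfLe hUV).toEquiv, hU]; exact dvd_pow_self 3 hj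
      have h1 : (1 : ↥(U.subgroupOf V)) ∈ MulAction.fixedPoints (ConjAct ↥V) ↥(U.subgroupOf V) :=
        fun g => smul_one g
      exact (hVp.of_equiv ConjAct.toConjAct).exists_fixed_point_of_prime_dvd_card_of_fixed_point _ hpU h1
    refine ⟨((x : ↥V) : G), Subgroup.mem_subgroupOf.mp x.2,
      fun h => hx1 (Subtype.ext (Subtype.ext h.symm)), fun v hv => ?_⟩
    have := congrArg (fun y : ↥(U.subgroupOf V) => ((y : ↥V) : G)) (hx (ConjAct.toConjAct ⟨v, hv⟩))
    simp [ConjAct.Subgroup.val_conj_smul, ConjAct.smul_def] at this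
    exact mul_inv_eq_iff_eq_mul.mp this
  set D := Subgroup.centralizer ({u} : Set G) with hD
  have htu : Commute t u := (Subgroup.mem_centralizer_singleton_iff.mp (hUC hu)).symm
  have htD : t ∈ D := Subgroup.mem_centralizer_singleton_iff.mpr htu.eq
  have hVD : V ≤ D := fun v hv => Subgroup.mem_centralizer_singleton_iff.mpr (huc v hv)
  have hqu : ∃ k, orderOf u = 3 ^ k := by
    obtain ⟨k, hk⟩ := IsPGroup.iff_orderOf.mp hUp ⟨u, hu⟩
    exact ⟨k, by rw [← Subgroup.orderOf_mk u hu]; exact hk⟩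
  rcases Classical.em (Involves S3 G) with h | hfree
  · exact h
  exfalso
  have key : ∀ x : G, (∃ k : ℕ, orderOf x = 2 ^ k) → ∀ y : G, (∃ k : ℕ, orderOf y = 3 ^ k) →
      x * y * x⁻¹ = y⁻¹ → y = 1 := fun x hx y hy hxy => by
    by_contra hy1
    exact hfree (involves_perm3_iff.mpr ⟨x, y, hx, hy, hy1, hxy⟩)
  -- the Sylow 2-subgroup of D has order two
  obtain ⟨S, hS⟩ := (IsPGroup.of_card (n := 1) (by rw [Nat.card_zpowers, ← Subgroup.orderOf_coe, ht, pow_one] :
    Nat.card (Subgroup.zpowers (⟨t, htD⟩ : D)) = 2 ^ 1)).exists_le_sylow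
  have hS2 : Nat.card (S : Subgroup D) = 2 := by
    set W : Subgroup G := (S : Subgroup D).map D.subtype
    have hW : IsPGroup 2 W := S.2.map _
    have htW : t ∈ W := ⟨⟨t, htD⟩, hS (Subgroup.mem_zpowers _), rfl⟩
    obtain ⟨P, hP⟩ := hW.exists_le_sylow
    have hab := abelian_of_cent C (Nat.odd_iff.mp hidx |> fun h => by omega)
      (abelian_of_four hL ((Odd.pow (by decide)).mul hm2)) e P
    have hWC : W ≤ C := fun w hw => Subgroup.mem_centralizer_singleton_iff.mpr (hab w (hP hw) t (hP htW))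
    -- project to the linear group
    have hCi : ∀ w : W, (w : G) ∈ C := fun w => hWC w.2
    let π : ↥W →* Matrix.ProjectiveSpecialLinearGroup (Fin 2) F :=
      (MonoidHom.snd _ _).comp (e.toMonoidHom.comp (Subgroup.inclusion hWC))
    set uL := (e ⟨u, hUC hu⟩).2
    obtain ⟨k, hk⟩ := hqu
    have huC : (⟨u, hUC hu⟩ : ↥C) ^ 3 ^ k = 1 := Subtype.ext (by
      rw [Subgroup.coe_pow, ← hk, pow_orderOf_eq_one]; rfl)
    have huL : uL ≠ 1 := fun h1 => hu1 (by
      have h2 : e ⟨u, hUC hu⟩ ^ 2 = 1 := by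
        refine Prod.ext ?_ (by rw [Prod.pow_snd]; show uL ^ 2 = 1; rw [h1, one_pow])
        rw [Prod.pow_fst, Prod.fst_one]
        have := pow_card_eq_one' (x := (e ⟨u, hUC hu⟩).1)
        rwa [show Nat.card (Multiplicative (ZMod 2)) = 2 from
          (Nat.card_congr Multiplicative.toAdd).trans (Nat.card_zmod 2)] at this
      rw [← map_pow, MulEquiv.map_eq_one_iff] at h2
      have h := (Nat.Coprime.pow_right k (by norm_num : Nat.Coprime 2 3)).gcd_eq_one ▸ pow_gcd_eq_one.mpr ⟨h2, huC⟩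
      rw [pow_one] at h
      exact congrArg Subtype.val h)
    obtain ⟨k', hk'⟩ : ∃ k', orderOf uL = 3 ^ k' := by
      obtain ⟨k', -, hk'⟩ := (Nat.dvd_prime_pow Nat.prime_three).mp (orderOf_dvd_of_pow_eq_one
        (show uL ^ 3 ^ k = 1 by rw [← Prod.pow_snd, ← map_pow, huC, map_one]; rfl))
      exact ⟨k', hk'⟩
    have hπ1 : ∀ w : W, π w = 1 := fun w => by
      obtain ⟨d, -, hdw⟩ := w.2
      have hc : (⟨(w : G), hWC w.2⟩ : C) * ⟨u, hUC hu⟩ = ⟨u, hUC hu⟩ * ⟨(w : G), hWC w.2⟩ := Subtype.ext (by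
        show (w : G) * u = u * w
        rw [← hdw]
        exact Subgroup.mem_centralizer_singleton_iff.mp d.2)
      have hc' : π w * uL = uL * π w := by
        have := congrArg (fun x => (e x).2) hc
        simp only [map_mul, Prod.snd_mul] at this
        exact this
      have h3w := psl_cent_three hk' huL hc'
      obtain ⟨l, hl⟩ := hW w
      have h2w : π w ^ 2 ^ l = 1 := by rw [← map_pow, hl, map_one]
      have h := (Nat.Coprime.pow_right l (by norm_num : Nat.Coprime 3 2)).gcd_eq_one ▸ pow_gcd_eq_one.mpr ⟨h3w, h2w⟩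
      rwa [pow_one] at h
    have hle : Nat.card W ≤ 2 := by
      rw [← show Nat.card (Multiplicative (ZMod 2)) = 2 from
        (Nat.card_congr Multiplicative.toAdd).trans (Nat.card_zmod 2)]
      refine Nat.card_le_card_of_injective (fun w => (e ⟨(w : G), hWC w.2⟩).1) fun a b hab => Subtype.ext ?_
      have h2 : (e ⟨(a : G), hWC a.2⟩).2 = (e ⟨(b : G), hWC b.2⟩).2 := (hπ1 a).trans (hπ1 b).symm
      exact congrArg (fun x : ↥C => (x : G)) (e.injective (Prod.ext hab h2))
    rw [Subgroup.card_map_of_injective D.subtype_injective] at hle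
    have hge : 2 ≤ Nat.card (S : Subgroup D) := by
      have h := Subgroup.card_le_of_le hS
      rwa [Nat.card_zpowers, ← Subgroup.orderOf_coe, ht] at h
    omega
  -- the subgroup of index two in D and its Sylow 3-subgroups
  obtain ⟨o, ho, hDo⟩ : ∃ o, Odd o ∧ Nat.card D = 2 * o := by
    refine ⟨(S : Subgroup D).index, ?_, ?_⟩
    · have := S.not_dvd_index
      exact Nat.odd_iff.mpr (by omega)
    · have h := (S : Subgroup D).card_mul_index
      rw [hS2] at h
      exact h.symm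
  obtain ⟨E, hEn, hE⟩ := CfsgU43Type.exists_index_two_of_invol hDo ho (t := (⟨t, htD⟩ : D)) (Subtype.ext htt)
    (fun h => by rw [show t = 1 from congrArg Subtype.val h, orderOf_one] at ht; norm_num at ht)
  haveI := hEn
  have hEc : Nat.card E = o := by
    have h := E.card_mul_index
    rw [hE, hDo, mul_comm] at h
    exact Nat.eq_of_mul_eq_mul_left two_pos h
  have hjD : 3 ^ (j + 1) ∣ o := by
    have h1 : Nat.card V ∣ Nat.card D := Subgroup.card_dvd_of_le hVD
    obtain ⟨i, hi⟩ := IsPGroup.iff_card.mp hVp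
    have h2 : Nat.card U < Nat.card V := by
      refine lt_of_le_of_ne (Subgroup.card_le_of_le hUV) fun he => hnU ?_
      rw [Subgroup.eq_of_le_of_card_ge hUV he.ge]
      exact hnV
    rw [hU, hi] at h2
    have h4 := (pow_dvd_pow 3 (Nat.succ_le_of_lt ((Nat.pow_lt_pow_iff_right (by norm_num)).mp h2))).trans
      (hi ▸ h1)
    rw [hDo] at h4
    exact (Nat.Coprime.pow_left _ (by norm_num : Nat.Coprime 3 2)).dvd_of_dvd_mul_left h4
  obtain ⟨Q⟩ : Nonempty (Sylow 3 ↥E) := inferInstance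
  set Q' := (Q : Subgroup ↥E).map E.subtype
  have hQc : 3 ^ (j + 1) ∣ Nat.card Q' := by
    rw [Subgroup.card_map_of_injective E.subtype_injective]
    exact Q.pow_dvd_card_of_pow_dvd_card (hEc.symm ▸ hjD)
  have hN : 2 ∣ Nat.card (Subgroup.normalizer (Q' : Set D)) := by
    by_contra hodd
    have hle : Subgroup.normalizer (Q' : Set D) ≤ E := by
      intro x hx
      obtain ⟨l, hl⟩ : Odd (orderOf x) := by
        refine Nat.odd_iff.mpr ?_
        have h1 := Subgroup.orderOf_dvd_natCard _ hx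
        by_contra h2
        exact hodd ((Nat.dvd_of_mod_eq_zero (by omega)).trans h1)
      have e' : x = (x * x) ^ (l + 1) := by
        rw [← pow_two, ← pow_mul, show 2 * (l + 1) = orderOf x + 1 by omega, pow_succ, pow_orderOf_eq_one, one_mul]
      rw [e']
      exact pow_mem (Subgroup.mul_self_mem_of_index_two hE x) _
    have h := Sylow.normalizer_sup_eq_top Q
    rw [sup_eq_right.mpr hle] at h
    rw [h, Subgroup.index_top] at hE
    omega
  obtain ⟨s, hs⟩ := exists_prime_orderOf_dvd_card' 2 hN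
  have hs' : orderOf (s : D) = 2 := by rw [Subgroup.orderOf_coe]; exact hs
  obtain ⟨d, hd⟩ : ∃ d : D, d * s * d⁻¹ = ⟨t, htD⟩ := by
    have hSs : ¬ 2 ∣ (Subgroup.zpowers (s : D)).index := by
      have h := (Subgroup.zpowers (s : D)).card_mul_index
      rw [Nat.card_zpowers, hs', hDo] at h
      rw [Nat.eq_of_mul_eq_mul_left two_pos h]
      exact ho.not_two_dvd_nat
    have hsp : IsPGroup 2 (Subgroup.zpowers (s : D)) := IsPGroup.of_card (n := 1) (by rw [Nat.card_zpowers, hs', pow_one])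
    obtain ⟨d, hd⟩ := MulAction.exists_smul_eq D (hsp.toSylow hSs) S
    refine ⟨d, ?_⟩
    have h1 : d * s * d⁻¹ ∈ (S : Subgroup D) := by
      rw [← hd, Sylow.coe_subgroup_smul, Subgroup.mem_pointwise_smul_iff_inv_smul_mem]
      show (MulAut.conj d)⁻¹ (d * s * d⁻¹) ∈ Subgroup.zpowers (s : D)
      rw [MulAut.inv_apply, MulAut.conj_symm_apply, show d⁻¹ * (d * (s : D) * d⁻¹) * d = s by group]
      exact Subgroup.mem_zpowers _
    have h2 : (⟨t, htD⟩ : D) ∈ (S : Subgroup D) := hS (Subgroup.mem_zpowers _)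
    have hall : ∀ x y : (S : Subgroup D), x ≠ 1 → y ≠ 1 → x = y := fun x y hx hy =>
      ((Nat.card_eq_two_iff' (1 : ↥(S : Subgroup D))).mp hS2).unique hx hy
    refine congrArg Subtype.val (hall ⟨_, h1⟩ ⟨_, h2⟩ (fun h => ?_) (fun h => ?_))
    · have hs1 : (s : D) = 1 := conj_eq_one_iff.mp (congrArg Subtype.val h)
      rw [hs1, orderOf_one] at hs'
      norm_num at hs'
    · have ht1 : t = 1 := congrArg (fun x : ↥(S : Subgroup D) => ((x : D) : G)) h
      rw [ht1, orderOf_one] at ht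
      norm_num at ht
  -- the conjugated Sylow 3-subgroup is normalised, hence centralised, by t
  set Z : Subgroup G := (Q'.map (MulAut.conj d).toMonoidHom).map D.subtype
  have hZp : IsPGroup 3 Z := ((Q.2.map _).map _).map _
  have hZC : Z ≤ C := by
    rintro _ ⟨_, ⟨x, hx, rfl⟩, rfl⟩
    show ((d * x * d⁻¹ : D) : G) ∈ C
    set y : D := (⟨t, htD⟩ : D) * (d * x * d⁻¹) * (⟨t, htD⟩ : D)⁻¹ * (d * x * d⁻¹)⁻¹
    have hy : (y : G) ∈ Z := by
      refine ⟨y, ⟨(s : D) * x * (s : D)⁻¹ * x⁻¹, mul_mem ((Subgroup.mem_normalizer_iff.mp s.2 x).mp hx) (inv_mem hx),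
        ?_⟩, rfl⟩
      show d * ((s : D) * x * (s : D)⁻¹ * x⁻¹) * d⁻¹ = y
      rw [show y = (⟨t, htD⟩ : D) * (d * x * d⁻¹) * (⟨t, htD⟩ : D)⁻¹ * (d * x * d⁻¹)⁻¹ from rfl, ← hd]
      group
    have hy1 : (y : G) = 1 := by
      obtain ⟨i, hi⟩ := IsPGroup.iff_orderOf.mp hZp ⟨_, hy⟩
      refine key t ⟨1, by rw [ht, pow_one]⟩ _ ⟨i, by rw [← Subgroup.orderOf_mk _ hy]; exact hi⟩ ?_
      show t * (t * ((d * x * d⁻¹ : D) : G) * t⁻¹ * ((d * x * d⁻¹ : D) : G)⁻¹) * t⁻¹ =
        (t * ((d * x * d⁻¹ : D) : G) * t⁻¹ * ((d * x * d⁻¹ : D) : G)⁻¹)⁻¹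
      generalize ((d * x * d⁻¹ : D) : G) = g
      rw [hti, mul_inv_rev, mul_inv_rev, mul_inv_rev, inv_inv, hti]
      simp only [mul_assoc]
      rw [← mul_assoc t t, htt, one_mul]
    have hy2 : t * ((d * x * d⁻¹ : D) : G) * t⁻¹ * ((d * x * d⁻¹ : D) : G)⁻¹ = 1 := hy1
    exact Subgroup.mem_centralizer_singleton_iff.mpr (mul_inv_eq_iff_eq_mul.mp (mul_inv_eq_one.mp hy2)).symm
  have hZc : 3 ^ (j + 1) ∣ Nat.card Z := by
    rw [Subgroup.card_map_of_injective D.subtype_injective,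
      Subgroup.card_map_of_injective (MulAut.conj d).injective]
    exact hQc
  have hd3 := hZc.trans ((Subgroup.card_dvd_of_le hZC).trans (dvd_of_eq hC))
  rw [show 2 * (4 * (3 ^ j * m)) = 3 ^ j * (8 * m) by ring, pow_succ] at hd3
  have h38 := Nat.dvd_of_mul_dvd_mul_left (by positivity) hd3
  omega

end CfsgLib.GoldschmidtS3
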