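/-
Goldschmidt groups: no section S₄, and a section S₃ outside Sz(2^(2n+1)) and PSL₂(3^(2n+1)),
given the order of a group of Ree type.
-/
import Cfsg.Agent.Lib.GoldschmidtS3.Ree
import Cfsg.Agent.Lib.GoldschmidtS3.Unitary
import Cfsg.Prelude.Def_Sporadic
import Cfsg.Prelude.Def_Exceptional

set_option autoImplicit false
set_option linter.unusedSectionVars false
set_option linter.style.haveILetI false

namespace CfsgLib.GoldschmidtS3

open Cfsg

universe u

local notation "S3" => Equiv.Perm (Fin 3)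
local notation "S4" => Equiv.Perm (Fin 4)

/-- The theorem of Janko–Thompson and Ward for the group `G`. -/
def OrderThm (G : Type u) [Group G] : Prop :=
  IsSimpleGroup G → (∀ P : Sylow 2 G, ∀ a b : P, a * b = b * a) →
    ∀ (F : Type) [Field F] [Fintype F], 3 ≤ Fintype.card F → ∀ t : G, orderOf t = 2 →
      Nonempty (Subgroup.centralizer ({t} : Set G) ≃*
        Multiplicative (ZMod 2) × Matrix.ProjectiveSpecialLinearGroup (Fin 2) F) →
      (∃ m : ℕ, 1 ≤ m ∧ Fintype.card F = 3 ^ (2 * m + 1) ∧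
          Nat.card G = (3 ^ (2 * m + 1)) ^ 3 * ((3 ^ (2 * m + 1)) ^ 3 + 1) * (3 ^ (2 * m + 1) - 1)) ∨
        ((Fintype.card F = 4 ∨ Fintype.card F = 5) ∧ Cfsg.IsJ1 G)

theorem ree_facts {G : Type u} [Group G] [Finite G] (hJT : OrderThm G) (h : IsReeType G) :
    ¬ Involves S4 G ∧ Involves S3 G := by
  obtain ⟨hsimp, -, t, K, n, hn, ht, hidx, hprod, F, i1, i2, hF, ⟨eK⟩⟩ := h
  obtain ⟨e⟩ := equiv_of_internal ht hprod
  set C := Subgroup.centralizer ({t} : Set G)
  let e' : ↥C ≃* Multiplicative (ZMod 2) × Matrix.ProjectiveSpecialLinearGroup (Fin 2) F :=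
    e.trans (MulEquiv.prodCongr (MulEquiv.refl _) eK)
  obtain ⟨m, hm, -, hc⟩ := psl_three_card hF
  have hab := abelian_of_cent C (by rw [Nat.two_dvd_ne_zero]; exact Nat.odd_iff.mp hidx)
    (abelian_of_four hc ((Odd.pow (by decide)).mul hm)) e'
  refine ⟨s4_free_of_abelian hab, s3_of_order ht hidx hF e' ?_⟩
  have h3 : 3 ≤ Fintype.card F := by
    rw [hF]; exact Nat.le_self_pow (by omega) 3
  rcases hJT hsimp (fun P a b => Subtype.ext (hab P a a.2 b b.2)) F h3 t ht ⟨e'⟩ with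
    ⟨m', -, hm', hG⟩ | ⟨hq, -⟩
  · rw [hG, ← hm', hF]
    refine dvd_mul_of_dvd_left (dvd_mul_of_dvd_left ?_ _) _
    rw [← pow_mul]
    exact pow_dvd_pow 3 (by omega)
  · have h27 : 3 ^ 3 ≤ Fintype.card F := hF ▸ Nat.pow_le_pow_right (by norm_num) (by omega)
    omega

/-- The statement, given the order theorem. -/
theorem main {G : Type u} [Group G] [Finite G] (hJT : OrderThm G) (hG : Cfsg.IsGoldschmidtGroup G) :
    ¬ Cfsg.Involves S4 G ∧ (¬ Cfsg.Involves S3 G ↔ Cfsg.IsSuzukiOrPSL2OddPowerThree G) := by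
  have hfree : Cfsg.IsSuzukiOrPSL2OddPowerThree G → ¬ Involves S3 G := by
    rintro (h | ⟨F, i1, i2, n, hF, ⟨e⟩⟩)
    · exact (suzuki_facts h).2
    · exact psl_three_free hF e
  suffices h : ¬ Involves S4 G ∧ (Involves S3 G ∨ Cfsg.IsSuzukiOrPSL2OddPowerThree G) from
    ⟨h.1, fun hn => h.2.resolve_left hn, hfree⟩
  rcases hG with h | ⟨F, i1, i2, n, hn, hF, ⟨e⟩⟩ | h | ⟨F, i1, i2, n, hn, hF, ⟨e⟩⟩ |
    ⟨F, i1, i2, q, hF, hq, h8, ⟨e⟩⟩ | h
  · exact ⟨(ree_facts hJT h).1, Or.inl (ree_facts hJT h).2⟩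
  · obtain ⟨h4, h3⟩ := psl_even (F := F) (by omega : n ≠ 0) hF
    exact ⟨fun h => h4 (involves_congr e h), Or.inl (involves_congr e.symm h3)⟩
  · exact ⟨(suzuki_facts h).1, Or.inr (Or.inl h)⟩
  · obtain ⟨h4, h3⟩ := psu_facts (F := F) hF
    exact ⟨fun h => h4 (involves_congr e h), Or.inl (involves_congr e.symm h3)⟩
  · subst hF
    refine ⟨fun h => s4_free_of_abelian (psl_odd_abelian h8) (involves_congr e h), ?_⟩
    by_cases h3 : (3 : F) = 0
    · refine Or.inr (Or.inr ?_)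
      haveI : Fact (Nat.Prime 3) := ⟨Nat.prime_three⟩
      haveI : CharP F 3 := by
        refine (CharP.charP_iff_prime_eq_zero Nat.prime_three).mpr ?_
        exact_mod_cast h3
      obtain ⟨j, -, hj⟩ := FiniteField.card F 3
      obtain ⟨l, hl⟩ : Odd (j : ℕ) := by
        refine Nat.not_even_iff_odd.mp fun ⟨l, hl⟩ => ?_
        rw [hl, ← two_mul, pow_mul] at hj
        have h1 : ((3 : ℕ) ^ 2) ^ l % 8 = 1 := by rw [Nat.pow_mod]; norm_num
        rw [← hj] at h1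
        omega
      exact ⟨F, i1, i2, l, by rw [hj, hl], ⟨e⟩⟩
    · exact Or.inl (involves_congr e.symm (psl_s3 h3))
  · exact ⟨(j1_facts h).1, Or.inl (j1_facts h).2⟩

end CfsgLib.GoldschmidtS3
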